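-- copy of a landed module avoiding the name clash (`Comp.syl_inf`) between `SC2.D` and `Sig.S4D`
import Cfsg.Agent.HoltX.S7c
import Cfsg.Agent.GW.Main
import Cfsg.Agent.Perm.AltOn

/-!
# Holt's theorem, no pairs of type I: the group is `S₇`
-/

set_option linter.unusedSectionVars false
set_option autoImplicit false

namespace CF.Holt.S7
open MulAction Subgroup Cfsg CF.BG CF.Bender CF.ZD CF.Ab2 CF.Holt.Zb Equiv CF.Perm
open scoped Pointwise commutatorElement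

universe u

variable {G Ω : Type u} [Group G] [Finite G] [MulAction G Ω] [Finite Ω] {X : Subgroup G}
  {D : Set G} {𝓕 : Set (Set Ω)} {a c d e g s v w x y z : G} {α β γ p q : Ω}
  {H P S : Subgroup G} {Γ A : Set Ω}

theorem exists_res (l : H ≤ St G Γ) : ∃ ρ : H →* Perm Ω,
    ∀ g p, (p ∈ Γ → ρ g p = (g : G) • p) ∧ (p ∉ Γ → ρ g p = p) := by
  classical
  have k : ∀ (g : H) (p : Ω), toPerm (g : G) p ∈ Γ ↔ p ∈ Γ := fun g p =>
    ⟨fun e => by simpa using St_smul (l (inv_mem g.2)) e, St_smul (l g.2)⟩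
  exact ⟨Perm.ofSubtype.comp (.mk' (fun g => (toPerm (g : G)).subtypePerm (k g)) fun _ _ =>
    Equiv.ext fun _ => Subtype.ext (mul_smul _ _ _)), fun g p =>
      ⟨Perm.ofSubtype_subtypePerm_of_mem (k g), Perm.ofSubtype_subtypePerm_of_not_mem (k g)⟩⟩

theorem alt_le [Fintype Ω] [DecidableEq Ω] {ρ : H →* Perm Ω}
    (r : ∀ g p, (p ∈ Γ → ρ g p = (g : G) • p) ∧ (p ∉ Γ → ρ g p = p)) (hx : x ∈ H) (l : A ⊆ Γ)
    (c : A.ncard = 3) (k : ∀ p ∈ Γ, x • p ≠ p ↔ p ∈ A) :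
    altOn (Set.toFinite A).toFinset ≤ ρ.range := by
  have e : (ρ ⟨x, hx⟩).support = (Set.toFinite A).toFinset := by
    ext p
    rw [Perm.mem_support, Set.Finite.mem_toFinset]
    by_cases m : p ∈ Γ
    · rw [(r _ p).1 m]; exact k p m
    · exact iff_of_false (not_not.2 ((r _ p).2 m)) fun n => m (l n)
  rw [← e, ← zpowers_eq_altOn (card_support_eq_three_iff.1
    (by rw [e, ← Set.ncard_eq_toFinset_card, c]))]
  exact zpowers_le.2 ⟨_, rfl⟩

namespace H7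
variable (h : H7 X D 𝓕) (t : Tri D 𝓕 d y z)
include h t

theorem union_eq : Γ7 Ω d y (y * z) = Γ7 Ω d y z := by
  refine Set.Subset.antisymm (Set.union_subset Set.subset_union_left (h.third t))
    (Set.union_subset Set.subset_union_left ?_)
  have := h.third (h.tmul t)
  rwa [← mul_assoc y, (ziv h.toCy t.hy).sq, one_mul] at this

theorem act_eq (he : e ∈ D) (c1 : e * (d * y) = d * y * e) (c2 : e * z = z * e) (b : e • β = β)
    (b' : β ∈ Fx Ω z) (hp : p ∈ Fx Ω (d * y)) (np : p ∉ Fx Ω z) : (d * e) • p = p := by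
  obtain ⟨α, a⟩ := h.ex t.hd
  have m := St_smul (St_of_comm c1) hp
  have n : e • p ∉ Fx Ω z := fun k => np (by
    simpa using St_smul (inv_mem (St_of_comm (Ω := Ω) c2)) k)
  rcases h.three (h.tmul t) a hp ((h.split t hp).resolve_left np)
    (fun k => np (h.fixα t k).2) m ((h.split t m).resolve_left n) with r | r | r
  · exact absurd (r ▸ (h.fixα t a).2) n
  · exact absurd (h.uniq he b r ▸ b') np
  · rw [mul_smul, r, ← mul_smul, (h.iv t.hd).sq, one_smul]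

theorem cyc3 : ∃ x ∈ X ⊓ St G (Γ7 Ω d y z),
    ∀ p ∈ Γ7 Ω d y z, x • p ≠ p ↔ p ∈ Fx Ω (d * y) ∩ Fx Ω z := by
  obtain ⟨α, a⟩ := h.ex t.hd
  obtain ⟨β, b, b', nb⟩ := h.exβ t
  have i := h.iv t.hd
  have c0 : d * y * z = z * (d * y) := by rw [← mul_assoc, ← t.dz, mul_assoc, mul_assoc, t.yz]
  obtain ⟨e, he, c, r⟩ := h.cen (pi_pair ((iv_e2 i).mul (iv_e2 (ziv h.toCy t.hy)) t.dy)
    (iv_e2 (ziv h.toCy t.hz)) c0) (GW.V4_le.2 ⟨b, b'⟩ : _ ≤ stabilizer G β)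
  have c1 := (mem_cent.1 c _ (mem_sup_left (mem_zpowers _))).symm
  have c2 := (mem_cent.1 c _ (mem_sup_right (mem_zpowers _))).symm
  have c3 : e * (d * (z * y)) = d * (z * y) * e := by
    rw [← t.yz, ← mul_assoc d, ← mul_assoc, c1, mul_assoc, c2, ← mul_assoc]
  have t' := (h.tmul t.symm).symm
  have s1 : d ∈ St G (Fx Ω (d * y)) := St_of_comm (by rw [mul_assoc, t.dy])
  have s2 : d ∈ St G (Fx Ω (d * (z * y))) := St_of_comm (by rw [mul_assoc, t'.dy])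
  rw [← h.union_eq t, Γ7, t.yz]
  refine ⟨d * e, mi (h.mul t.hd he) ?_, fun p hp => ⟨fun k => ?_, fun k u => ?_⟩⟩
  · rw [mem_St, Set.smul_set_union, mem_St.1 (mul_mem s1 (St_of_comm c1)),
      mem_St.1 (mul_mem s2 (St_of_comm c3))]
  · have m : p ∈ Fx Ω z := by_contra fun n =>
      k (hp.elim (h.act_eq t he c1 c2 r b' · n) (h.act_eq t' he c3 c2 r b' · n))
    refine ⟨hp.elim id fun u => ?_, m⟩
    rwa [mem_Fx, ← t.yz, ← mul_assoc, mul_smul, m] at u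
  rw [mul_smul, smul_eq_iff_eq_inv_smul, i.inv] at u
  rcases h.three t a b b' nb k.1 k.2 with rfl | rfl | rfl
  · exact nb (h.uniq he (u.trans a) r ▸ a)
  · exact nb (u.symm.trans r)
  · rw [← mul_smul d, i.sq, one_smul] at u
    exact nb (smul_left_cancel e (u.trans r.symm))

theorem card7 : (Γ7 Ω d y z).ncard = 7 := by
  obtain ⟨α, a⟩ := h.ex t.hd
  have e : Γ7 Ω d y z = Fx Ω (d * y) ∪ (Fx Ω (d * z) ∩ Fx Ω y) := by
    refine Set.Subset.antisymm (Set.union_subset Set.subset_union_left fun p hp => ?_)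
      (Set.union_subset_union_right _ Set.inter_subset_left)
    refine (h.split t.symm hp).elim (fun k => .inr ⟨hp, k⟩) fun k => .inl ?_
    rw [mem_Fx, show d * y = d * z * (z * y) by
      rw [mul_assoc, ← mul_assoc z, (ziv h.toCy t.hz).sq, one_mul], mul_smul, k, hp]
  have e' : Fx Ω (d * y) ∩ (Fx Ω (d * z) ∩ Fx Ω y) = {α} := by
    refine Set.eq_singleton_iff_unique_mem.2 ⟨⟨(h.fixα t a).1, h.fixα t.symm a⟩, fun p hp => ?_⟩
    exact h.uniq t.hd ((dβ (h.iv t.hd) hp.1).trans hp.2.2) a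
  have := Set.ncard_union_add_ncard_inter (Fx Ω (d * y)) (Fx Ω (d * z) ∩ Fx Ω y)
  rw [e', h.five' t, h.ncard3 t.symm, Set.ncard_singleton, ← e] at this
  omega

theorem alt7 [Fintype Ω] [DecidableEq Ω] : ∃ ρ : ↥(X ⊓ St G (Γ7 Ω d y z)) →* Perm Ω,
    (∀ g p, p ∈ Γ7 Ω d y z → ρ g p = (g : G) • p) ∧
      altOn (Set.toFinite (Γ7 Ω d y z)).toFinset ≤ ρ.range := by
  obtain ⟨ρ, r⟩ := exists_res (inf_le_right : X ⊓ St G (Γ7 Ω d y z) ≤ _)
  refine ⟨ρ, fun g p => (r g p).1, ?_⟩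
  obtain ⟨α, a⟩ := h.ex t.hd
  obtain ⟨x1, m1, k1⟩ := h.cyc3 t
  obtain ⟨x2, m2, k2⟩ := h.cyc3 (h.tmul t)
  obtain ⟨x3, m3, k3⟩ := h.cyc3 t.symm
  rw [h.union_eq t] at m2 k2
  rw [Γ7, Set.union_comm] at m3 k3
  have c1 := h.ncard3 t
  have c2 := h.ncard3 (h.tmul t)
  have c3 := h.ncard3 t.symm
  have l1 := alt_le r m1 (fun _ k => .inl k.1) c1 k1
  have l2 := alt_le r m2 (fun _ k => .inl k.1) c2 k2
  have l3 := alt_le r m3 (fun _ k => .inr k.1) c3 k3
  rw [Set.ncard_eq_toFinset_card] at c1 c2 c3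
  have n1 := (Set.toFinite _).mem_toFinset.2 (show α ∈ _ ∩ _ from h.fixα t a)
  have l4 := (altOn_union_le c1.ge c2.ge (Finset.not_disjoint_iff.2 ⟨α, n1,
    (Set.toFinite _).mem_toFinset.2 (h.fixα (h.tmul t) a)⟩)).trans (sup_le l1 l2)
  refine (altOn_mono fun p hp => ?_).trans ((altOn_union_le
    (c1.ge.trans (Finset.card_le_card Finset.subset_union_left)) c3.ge (Finset.not_disjoint_iff.2
      ⟨α, Finset.mem_union_left _ n1, (Set.toFinite _).mem_toFinset.2 (h.fixα t.symm a)⟩)).trans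
      (sup_le l4 l3))
  have aux : ∀ p ∈ Fx Ω (d * y), p ∈ Fx Ω (d * y) ∩ Fx Ω z ∨ p ∈ Fx Ω (d * y) ∩ Fx Ω (y * z) :=
    fun p hp => (h.split t hp).imp (⟨hp, ·⟩) (⟨hp, ·⟩)
  simp only [Finset.mem_union, Set.Finite.mem_toFinset] at hp ⊢
  refine hp.elim (fun k => .inl (aux p k)) fun hp => ?_
  refine (h.split t.symm hp).elim (fun k => .inr ⟨hp, k⟩) fun k => .inl (aux p ?_)
  rw [mem_Fx, show d * y = d * z * (z * y) by
    rw [mul_assoc, ← mul_assoc z, (ziv h.toCy t.hz).sq, one_mul], mul_smul, k, hp]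

end H7

namespace Fd
variable (f : Fd D 𝓕 S a c y d) (h : H7 X D 𝓕)
include f h

theorem dX : d ∉ X := fun m => by
  have e : X = ⊤ := eq_top_iff.2 fun g _ => (h.gen f.hd g).elim id fun k => by
    simpa using mul_mem k (inv_mem m)
  have n := e ▸ h.ns
  obtain ⟨g, k⟩ := thompson (X := RR a c y) (fun H k => by
    rcases n.eq_or H (normalIn_top.2 (normal_of_index_eq_two k)) with rfl | rfl
    · exact n.not_abel (cyc_of_prime (by rw [card_top', ← index_bot, k]; exact p2)).abel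
    · simp at k) f.hS (relIndex_dvd_two_iff.2 ⟨d, f.dmem h, fun s hs => (f.dec h hs).symm⟩) (h.iv f.hd)
  have hd := h.conj f.hd g
  have i := h.iv hd
  rcases f.mem k with r | r | r | r | r | r | r | r <;> rw [r] at hd i
  · exact i.ne rfl
  · exact z_not_D h.toCy f.ha hd
  · exact z_not_D h.toCy f.hc hd
  · exact z_not_D h.toCy (f.hac h).1 hd
  · exact z_not_D h.toCy f.hy hd
  · exact z_not_D h.toCy (f.hcy h).1 hd
  · simpa [mul_assoc, f.rl] using i.sq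
  · simpa [mul_assoc, f.rl] using i.sq

theorem sylX : Syl 2 (RR a c y) X := by
  have l : RR a c y ≤ X :=
    sup_le (GW.V4_le.2 ⟨yX h.toCx f.ha.1, yX h.toCx f.hc.1⟩) (zpowers_le.2 (yX h.toCx f.hy.1))
  rw [(le_inf f.RS l).antisymm fun s hs => (f.dec h hs.1).resolve_right fun k =>
    f.dX h (by simpa using mul_mem (inv_mem (mi2 hs)) (l k))]
  exact f.hS.inf_normal h.nrm

theorem cardX : ♯X = 2520 := by
  have g := GW.dg_of_syl (f.sylX h) f.dc
  rcases (g.gwc h.ns.O h.ns.perf h.ns.ne).2 with ⟨F, _, _, o, h3, ⟨e⟩⟩ | ⟨⟨e⟩⟩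
  swap
  · rw [Nat.card_congr e.toEquiv, nat_card_alternatingGroup]; simp [Nat.factorial]
  obtain ⟨T, κ, κ', l⟩ := GW.exists_l2f (GW.two_ne_zero_of_odd o) (by simpa using h3) (.refl X)
    h.ns.center g.r2 e
  obtain ⟨γ, -, g2, ng⟩ := h.exβ f.tri.symm
  obtain ⟨e, he, k, r⟩ := h.cen f.hV.pi (f.hV.le.trans (QF_le_FX.trans (FX_le g2)))
  have m : zpowers (d * e) ≤ X ⊓ 𝐂 (zpowers a ⊔ zpowers c) := zpowers_le.2
    ⟨h.mul f.hd he, mul_mem (cent_anti (le_sup_left.trans f.RS) f.dS) k⟩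
  obtain ⟨u, o, -, ho, e2, od, q⟩ := exists_piPart {2} (d * e)
  have od := eo_iff.2 od
  have c1 := mem_cent.1 (m ho).2 a (mem_sup_left (mem_zpowers a))
  have c2 := mem_cent.1 (m ho).2 c (mem_sup_right (mem_zpowers c))
  have cX := yX h.toCx f.hc.1
  rw [GW.eq_one_of_inv_of_comm (l.T_inv c cX f.ic.orderOf a (yX h.toCx f.ha.1) f.ia.orderOf f.ne
    f.ca.symm o (l.mem_T_of_odd cX f.ic.orderOf (m ho).1 (mem_cent1.2 c2.symm) od)) c1.symm od,
    mul_one] at q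
  have i := h.iv f.hd
  obtain ⟨p, hp⟩ := exists_fix h.toCy (e2.zpowers.sup (iv_pi i) (.inr (zpowers_le.2
    ((GW.inv_zpowers (a := d) (by
      rw [q, ← mul_assoc, i.sq, one_mul, mul_inv_rev, (h.iv he).inv])).norm le_rfl))))
  have p1 : d • p = p := hp (mem_sup_right (mem_zpowers d))
  have p2 : u • p = p := hp (mem_sup_left (mem_zpowers u))
  rw [q, mul_smul, smul_eq_iff_eq_inv_smul, i.inv, p1] at p2
  exact absurd (h.uniq he p2 r ▸ p1) ng

theorem main [Fintype Ω] [DecidableEq Ω] : 7 ≤ Nat.card Ω ∧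
    ∀ σ ∈ alternatingGroup Ω, ∃ x ∈ X, ∀ p : Ω, x • p = σ p := by
  obtain ⟨ρ, r, l⟩ := h.alt7 f.tri
  have c7 := h.card7 f.tri
  have c1 := card_altOn (s := (Set.toFinite (Γ7 Ω d c y)).toFinset)
    (by rw [← Set.ncard_eq_toFinset_card, c7]; omega)
  rw [← Set.ncard_eq_toFinset_card, c7] at c1
  have c2 := (card_le l).trans (Nat.card_le_card_of_surjective _ ρ.rangeRestrict_surjective)
  have e := inf_eq_left.1 (eq_of_card_le (inf_le_left : X ⊓ St G (Γ7 Ω d c y) ≤ X) (by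
    rw [f.cardX h]; simp [Nat.factorial] at c1; omega))
  have dΓ : d ∈ St G (Γ7 Ω d c y) := by
    rw [mem_St, Set.smul_set_union, mem_St.1 (f.st h (f.dmem h)),
      mem_St.1 (St_of_comm (by rw [mul_assoc, f.tri.dz]))]
  have all : ∀ p, p ∈ Γ7 Ω d c y := fun p => by
    obtain ⟨b, hb, -, k⟩ := h.cen (piGrp_bot _) (bot_le : _ ≤ stabilizer G p)
    have m : zpowers b ≤ St G (Γ7 Ω d c y) :=
      zpowers_le.2 (by simpa using mul_mem (e (h.mul hb f.hd)) (inv_mem dΓ))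
    obtain ⟨q, hq, u⟩ := pfix p2 (iv_pi (h.iv hb)) (Set.toFinite _)
      (fun g hg _ => St_smul (m hg)) (by rw [c7]; decide)
    exact h.uniq hb (u (mem_zpowers b)) k ▸ hq
  refine ⟨by rw [← Set.ncard_univ, ← Set.eq_univ_of_forall all, c7], fun σ hσ => ?_⟩
  obtain ⟨x, rfl⟩ := l (mi (fun p n => absurd ((Set.toFinite _).mem_toFinset.2 (all p)) n) hσ)
  exact ⟨x, x.2.1, fun p => (r x p (all p)).symm⟩

end Fd
end CF.Holt.S7

namespace CF.Holt

universe u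

/-- if there are pairs of type II but none of type I then the group is `S₇` -/
theorem s7 {G Ω : Type u} [Group G] [Finite G] [MulAction G Ω] [Finite Ω] {X : Subgroup G}
    {D : Set G} {𝓕 : Set (Set Ω)} (h : B2 X D 𝓕) (nP : ∀ F F', ¬ P1 D 𝓕 F F') : Nt Ω X := by
  classical
  have H : S7.H7 X D 𝓕 := ⟨h, nP⟩
  obtain ⟨S, a, c, y, hS, f⟩ := H.exists_Fr
  obtain ⟨d, hd, k⟩ := H.exists_d hS.pi
  have f' : S7.Fd D 𝓕 S a c y d := ⟨f, hS, hd, k⟩
  cases nonempty_fintype Ω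
  exact .inr ⟨(f'.main H).1, fun {_ _} => (f'.main H).2⟩

end CF.Holt
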