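-- copy of a landed module avoiding the name clash (`Comp.syl_inf`) between `SC2.D` and `Sig.S4D`
import Cfsg.Agent.HoltX.N0b
import Cfsg.Agent.HoltX.Lj

/-! Holt's theorem on transitive groups in which a `2`-central involution fixes one point. -/

namespace CF.Holt
universe u

theorem holt (n : ℕ) : Main.{u} n := main_of (fun _ => ls) n

end CF.Holt
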